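import Mathlib
import Cfsg.Agent.H359.Asm
import Cfsg.Agent.H359.Alt.Struct
import Cfsg.Agent.H359.Alt.List8
import Cfsg.Agent.H359.Alt.L34D
import Cfsg.Agent.H366.EightFinal
import Cfsg.Agent.H511.Sp.TopN

/-!
# The rows `A₉`, `A₈`, `A₇` (TEAM SPEC-ALT)
-/

set_option autoImplicit false

namespace Cfsg.Agent.H359.Alt

open Cfsg Subgroup Cfsg.Agent.H357.Sp Cfsg.Agent.H359

/-- orders and `W` -/
theorem dvd_of_W {k : ℕ} (hk : k ≠ 0) (h : W k ≤ 9) : k ∣ 2520 := by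
  rw [Nat.dvd_iff_prime_pow_dvd_dvd]
  intro p j hp hj
  rcases Nat.eq_zero_or_pos j with rfl | hj0
  · simp
  have hpk : p ∣ k := (dvd_pow_self p hj0.ne').trans hj
  have h1 : p ^ k.factorization p ≤ W k := by
    unfold W
    exact Finset.single_le_sum (f := fun p => p ^ k.factorization p) (fun _ _ => Nat.zero_le _)
      (Nat.mem_primeFactors.mpr ⟨hp, hpk, hk⟩)
  have h2 : p ^ j ≤ p ^ k.factorization p :=
    Nat.pow_le_pow_right hp.pos ((hp.pow_dvd_iff_le_factorization hk).mp hj)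
  have h3 : p ^ j ≤ 9 := h2.trans (h1.trans h)
  have h4 : 0 < p ^ j := Nat.pow_pos hp.pos
  generalize p ^ j = m at h3 h4
  interval_cases m <;> norm_num

theorem Spec.mem {ε n : ℕ} {G : Type*} [Group G] [Finite G] (h : Spec ε n G) (hn : n ≤ 9) {s : Finset ℕ}
    (hs : ∀ k ∈ Nat.divisors 2520, W k + (if Even k then ε else 0) ≤ n → k ∈ s) (x : G) :
    orderOf x ∈ s := by
  have h1 := h.up x
  refine hs _ (Nat.mem_divisors.mpr ⟨dvd_of_W (orderOf_pos x).ne' ?_, by norm_num⟩) h1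
  omega

/-- the common setup -/
structure Fr (G : Type) [Group G] [Finite G] (K : Subgroup G) [K.Normal] (S : Subgroup (G ⧸ K)) : Prop where
  sp : Sp G
  nil : Group.IsNilpotent K
  k7 : ¬ 7 ∣ Nat.card K
  nor : S.Normal
  simple : IsSimpleGroup S
  na : ¬ IsMulCommutative S
  s7 : 7 ∣ Nat.card S
  cen : centralizer (S : Set (G ⧸ K)) = ⊥

variable {G : Type} [Group G] [Finite G] {K : Subgroup G} [K.Normal] {S : Subgroup (G ⧸ K)}

theorem Fr.lift (_ : Fr G K S) {s : G ⧸ K} : ∃ x : G, orderOf x = orderOf s :=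
  exists_orderOf_lift K s

theorem Fr.no {n : ℕ} (h : Fr G K S) (hn : ∀ x : G, orderOf x ≠ n) (s : S) : orderOf s ≠ n := by
  intro hs
  obtain ⟨x, hx⟩ := h.lift (s := (s : G ⧸ K))
  exact hn x (by rw [hx, Subgroup.orderOf_coe, hs])

theorem Fr.top (h : Fr G K S) {m n : ℕ} (hm : 7 ≤ m) (hmn : m ≤ n) (e : S ≃* alternatingGroup (Fin m)) :
    ∃ (N : Subgroup G) (_ : N.Normal), Group.IsSolvable N ∧ ∃ m, 7 ≤ m ∧ m ≤ n ∧ Top m N := by
  have := h.nor
  obtain ⟨N, hN, ht, -, -, hNK⟩ := Cfsg.Agent.H511.Sp.exists_top (K := K) (M := S) hm ⟨e⟩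
  have h1 := hNK h.cen
  subst h1
  have := h.nil
  exact ⟨N, hN, inferInstance, m, hm, hmn, ht⟩

/-- no group of order prime to 5 -/
theorem Fr.bad5 (h : Fr G K S) (h5 : ∃ g : G, orderOf g = 5) (b5 : Bad.{0} 5 S)
    (n5 : ¬ 5 ∣ Nat.card S) (n49 : ¬ 49 ∣ Nat.card S) : False := by
  have := h.nor
  obtain ⟨a, k, -, -, hk⟩ := idx (h.sp.quot K) S h.s7 n49
  obtain ⟨g, hg⟩ := h5
  obtain ⟨s, hs'⟩ := exists_of_coprime K S g
    (by
      rw [hg]
      exact (Nat.Prime.coprime_iff_not_dvd (by norm_num)).mpr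
        (not_dvd_of_bad h.sp K h.nil S h.simple h.s7 (by simp) b5))
    (by
      rw [hg]
      refine Nat.Coprime.coprime_dvd_right ((Dvd.intro _ rfl).trans hk) ?_
      exact Nat.Coprime.mul_right (Nat.Coprime.pow_right _ (by norm_num)) (by norm_num))
  apply n5
  rw [← hg, ← hs']
  exact _root_.orderOf_dvd_natCard s

theorem Fr.idx34 (h : Fr G K S) (hc : Nat.card S = 20160) : ∃ a, S.index ∣ 7 ^ a * 2 := by
  have := h.nor
  obtain ⟨a, k, h6, h7', hk⟩ := idx (h.sp.quot K) S h.s7 (by rw [hc]; norm_num)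
  refine ⟨a, ?_⟩
  have h3 : S.index * 3 ∣ 7 ^ a * 6 := by
    rw [hc] at h7'
    rwa [k_cases h6 h7'] at hk
  rw [show 7 ^ a * 6 = 7 ^ a * 2 * 3 by ring] at h3
  exact Nat.dvd_of_mul_dvd_mul_right (by norm_num) h3

/-- the frame or the conclusion -/
theorem exists_fr (hs : Sp G) (h4 : ∃ g : G, orderOf g = 4) (h5 : ∃ g : G, orderOf g = 5)
    (h7 : ∃ g : G, orderOf g = 7) (hX : (∀ g : G, orderOf g ≠ 10) ∨ ∃ g : G, orderOf g = 9) :
    ∃ (K : Subgroup G) (_ : K.Normal) (S : Subgroup (G ⧸ K)), Fr G K S := by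
  obtain ⟨K, hKn, hK7, hKnil, h49, hc⟩ := main_alt hs h7
  rcases hc with hc | ⟨S, hSn, hSs, hna, hS7, hcen⟩
  · exact (core_false hs K hKnil h49 hc h4 h5 hX).elim
  · exact ⟨K, hKn, S, ⟨hs, hKnil, hK7, hSn, hSs, hna, hS7, hcen⟩⟩

theorem nine_alt9 : ∃ g : alternatingGroup (Fin 9), orderOf g = 9 := by
  refine ⟨am [(0, 1), (1, 2), (2, 3), (3, 4), (4, 5), (5, 6), (6, 7), (7, 8)] (by decide +kernel)
    (by decide +kernel), ?_⟩
  refine orderOf_eq_prime_pow (p := 3) (n := 1) ?_ ?_ <;> decide +kernel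

theorem fifteen_alt8 : ∃ g : alternatingGroup (Fin 8), orderOf g = 15 := by
  refine ⟨am [(0, 1), (1, 2), (3, 4), (4, 5), (5, 6), (6, 7)] (by decide +kernel) (by decide +kernel), ?_⟩
  refine orderOf_eq_of_pow_and_pow_div_prime (by norm_num) (by decide +kernel) ?_
  intro p hp hd
  have h1 : p = 3 ∨ p = 5 := by
    rw [show 15 = 3 * 5 by norm_num] at hd
    rcases (Nat.Prime.dvd_mul hp).mp hd with h | h
    · exact Or.inl ((Nat.prime_dvd_prime_iff_eq hp (by norm_num)).mp h)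
    · exact Or.inr ((Nat.prime_dvd_prime_iff_eq hp (by norm_num)).mp h)
  rcases h1 with rfl | rfl <;> decide +kernel

theorem row9A : Cfsg.Agent.H357.Sp.Row 2 9 7 := by
  intro G _ _ hG
  have hord : ∀ x : G, orderOf x ∈ ({1, 2, 3, 4, 5, 6, 7, 9, 10, 12, 15} : Finset ℕ) :=
    Spec.mem hG le_rfl (by decide +kernel)
  have hs : Sp G := fun x => (by decide : ({1, 2, 3, 4, 5, 6, 7, 9, 10, 12, 15} : Finset ℕ) ⊆ Om) (hord x)
  have h8 : ∀ x : G, orderOf x ≠ 8 := fun x hx => by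
    have := hord x
    rw [hx] at this
    revert this
    decide
  have h5 : ∃ g : G, orderOf g = 5 := hG.down 5 (by norm_num) (by decide +kernel)
  obtain ⟨g, hg⟩ := hG.down 9 (by norm_num) (by decide +kernel)
  obtain ⟨K, hKn, S, h⟩ := exists_fr hs (hG.down 4 (by norm_num) (by decide +kernel)) h5
    (hG.down 7 (by norm_num) (by decide +kernel)) (Or.inr ⟨g, hg⟩)
  have := h.nor
  have := h.simple
  rcases list_no8 h.na ((hs.quot K).sub S) h.s7 (h.no h8) with ⟨⟨e⟩⟩ | ⟨⟨e⟩⟩ | ⟨⟨e⟩⟩ |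
    ⟨F, _, _, hF, ⟨e⟩⟩ | ⟨b5, n5, n49⟩
  · exact h.top le_rfl (by norm_num) e
  · exact h.top (by norm_num) (by norm_num) e
  · exact h.top (by norm_num) le_rfl e
  · exfalso
    obtain ⟨a, hi⟩ := h.idx34 (by rw [Nat.card_congr e.toEquiv, card_psl34 hF])
    have b3 : Bad.{0} 3 S := (LThreeFour.bad_psl34 hF).of_equiv e
    obtain ⟨s, hs'⟩ := exists_of_coprime K S g
      (by
        rw [hg, show 9 = 3 ^ 2 by norm_num]
        exact Nat.Coprime.pow_left _ ((Nat.Prime.coprime_iff_not_dvd (by norm_num)).mpr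
          (not_dvd_of_bad hs K h.nil S h.simple h.s7 (by simp) b3)))
      (by
        rw [hg]
        refine Nat.Coprime.coprime_dvd_right hi ?_
        exact Nat.Coprime.mul_right (Nat.Coprime.pow_right _ (by norm_num)) (by norm_num))
    exact no_of_equiv (no_nine_psl34 hF) e s (hs'.trans hg)
  · exact (h.bad5 h5 b5 n5 n49).elim

/-- in the case `L₃(4)` the radical is trivial if there are no elements of order 8, 14, 20, 35 -/
theorem Fr.bot34 (h : Fr G K S) {F : Type} [Field F] [Fintype F] (hF : Fintype.card F = 4)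
    (e : S ≃* Matrix.ProjectiveSpecialLinearGroup (Fin 3) F)
    (hn : ∀ n ∈ ([8, 14, 20, 35] : List ℕ), ¬ ∃ x : G, orderOf x = n) : K = ⊥ := by
  have := h.nor
  have := h.simple
  obtain ⟨φ, hφ⟩ := LThreeFour.exists_emb S hF e
  have b3 : Bad.{0} 3 S := (LThreeFour.bad_psl34 hF).of_equiv e
  have hk := fun {r : ℕ} (hr : r.Prime) (hr3 : r ≠ 3) (hr7 : r ≠ 7) h4 h7 =>
    LThreeFour.kill K h.nil S h.simple hφ (r := r) hr hr3 hr7 h4 h7
  rw [← Subgroup.card_eq_one]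
  by_contra hne
  obtain ⟨p, hp, hd⟩ := Nat.exists_prime_and_dvd hne
  have h1 := mem_of_prime_dvd (h.sp.sub K) hp hd
  simp only [Finset.mem_insert, Finset.mem_singleton] at h1
  rcases h1 with rfl | rfl | rfl | rfl
  · exact hk hp (by norm_num) (by norm_num) (hn 8 (by simp)) (hn 14 (by simp)) hd
  · exact not_dvd_of_bad h.sp K h.nil S h.simple h.s7 (by simp) b3 hd
  · exact hk hp (by norm_num) (by norm_num) (hn 20 (by simp)) (hn 35 (by simp)) hd
  · exact h.k7 hd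

theorem row8A : Cfsg.Agent.H357.Sp.Row 2 8 7 := by
  intro G _ _ hG
  have hord : ∀ x : G, orderOf x ∈ ({1, 2, 3, 4, 5, 6, 7, 15} : Finset ℕ) :=
    Spec.mem hG (by norm_num) (by decide +kernel)
  have hs : Sp G := fun x => (by decide : ({1, 2, 3, 4, 5, 6, 7, 15} : Finset ℕ) ⊆ Om) (hord x)
  have hno : ∀ n, n ∉ ({1, 2, 3, 4, 5, 6, 7, 15} : Finset ℕ) → ∀ x : G, orderOf x ≠ n :=
    fun n hn x hx => hn (hx ▸ hord x)
  have h5 : ∃ g : G, orderOf g = 5 := hG.down 5 (by norm_num) (by decide +kernel)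
  obtain ⟨g, hg⟩ := hG.down 15 (by norm_num) (by decide +kernel)
  obtain ⟨K, hKn, S, h⟩ := exists_fr hs (hG.down 4 (by norm_num) (by decide +kernel)) h5
    (hG.down 7 (by norm_num) (by decide +kernel)) (Or.inl (hno 10 (by decide)))
  have := h.nor
  have := h.simple
  rcases list_no8 h.na ((hs.quot K).sub S) h.s7 (h.no (hno 8 (by decide))) with ⟨⟨e⟩⟩ | ⟨⟨e⟩⟩ | ⟨⟨e⟩⟩ |
    ⟨F, _, _, hF, ⟨e⟩⟩ | ⟨b5, n5, n49⟩
  · exact h.top le_rfl (by norm_num) e
  · exact h.top (by norm_num) (by norm_num) e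
  · exfalso
    obtain ⟨x, hx⟩ := nine_alt9
    exact h.no (hno 9 (by decide)) (e.symm x) (by rw [MulEquiv.orderOf_eq, hx])
  · exfalso
    have hK := h.bot34 hF e (fun n hn => by
      rintro ⟨x, hx⟩
      refine hno n ?_ x hx
      simp only [List.mem_cons, List.not_mem_nil, or_false] at hn
      rcases hn with rfl | rfl | rfl | rfl <;> decide)
    obtain ⟨a, hi⟩ := h.idx34 (by rw [Nat.card_congr e.toEquiv, card_psl34 hF])
    obtain ⟨s, hs'⟩ := exists_of_coprime K S g (by rw [hK, Subgroup.card_bot]; exact Nat.coprime_one_right _)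
      (by
        rw [hg]
        refine Nat.Coprime.coprime_dvd_right hi ?_
        exact Nat.Coprime.mul_right (Nat.Coprime.pow_right _ (by norm_num)) (by norm_num))
    obtain ⟨φ, hφ⟩ := LThreeFour.exists_emb S hF e
    obtain ⟨n, hn, hd⟩ := hφ.order s.2
    rw [Subgroup.orderOf_coe, hs', hg] at hd
    simp only [List.mem_cons, List.not_mem_nil, or_false] at hn
    rcases hn with rfl | rfl | rfl | rfl <;> revert hd <;> norm_num
  · exact (h.bad5 h5 b5 n5 n49).elim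

end Cfsg.Agent.H359.Alt
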